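import Groth.Agent.EtDual.K152.PunctH
import Groth.Agent.EtCoh.K23.HensMain
import Groth.Agent.EtPBC.K349.NagataPush
import Groth.Agent.Brnch.K580.Cpl
import Groth.Agent.CurvesC.RatPow
import Groth.Agent.S0547
import Groth.Agent.S0548
import Groth.Agent.S18156

/-!
# Punctual purity of a strictly henselian regular local ring and of its completion

* `qiso` : `A/Iⁿ = Â/IⁿÂ`;
* `exists_Hpull` : the punctured spectra of `A` and of `Â` have the same cohomology with torsion coefficients;
* `pure_of_field`, `low` : purity in dimension zero; degrees zero and one;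
* `pure_transfer` : punctual purity passes between `A` and `Â`.
-/

set_option autoImplicit false
universe u
open CategoryTheory CategoryTheory.Limits AlgebraicGeometry Opposite IsLocalRing

namespace K174.CompPunct

open Groth.Agent Groth.Agent.Etbase Groth.Agent.Sga5 K152

/-- `A/Iⁿ = Â/IⁿÂ`. -/
theorem qiso (A : Type u) [CommRing A] (I : Ideal A) (hI : I.FG) :
    K23.HatMap.QIsoI (algebraMap A (AdicCompletion I A)) I where
  inj n a ha := by
    rw [Ideal.map_pow, S18156.mem_map_pow_iff I hI] at ha
    have h1 : (Ideal.Quotient.mk (I ^ n • (⊤ : Ideal A))) a = 0 := ha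
    rw [Ideal.Quotient.eq_zero_iff_mem, smul_eq_mul, Ideal.mul_top] at h1
    exact h1
  surj n y := by
    obtain ⟨a, ha⟩ := Ideal.Quotient.mk_surjective (AdicCompletion.eval I A n y)
    refine ⟨a, ?_⟩
    rw [Ideal.map_pow, S18156.mem_map_pow_iff I hI, map_sub, sub_eq_zero]
    exact ha

open Groth.Agent in
theorem isSepClosed_of_ringEquiv {k k' : Type*} [Field k] [Field k'] [IsSepClosed k] (φ : k ≃+* k') :
    IsSepClosed k' := by
  refine IsSepClosed.of_exists_root _ fun p _ hirr hsep => ?_
  obtain ⟨x, hx⟩ := IsSepClosed.exists_root (p.map (φ.symm : k' →+* k))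
    (by rw [Polynomial.degree_map]; exact hirr.degree_pos.ne') (hsep.map)
  refine ⟨φ x, ?_⟩
  have h1 : (φ.symm : k' →+* k) (p.eval (φ x)) = 0 := by
    rw [← Polynomial.eval_map_apply]
    simpa using hx
  exact (map_eq_zero_iff _ φ.symm.injective).mp h1

/-- The completion of a noetherian local ring with separably closed residue field is strictly henselian. -/
theorem isStrictlyHenselian_completion (A : Type u) [CommRing A] [IsLocalRing A] [IsNoetherianRing A]
    (hs : IsSepClosed (ResidueField A)) :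
    EtCoh.IsStrictlyHenselianLocalRing (AdicCompletion (maximalIdeal A) A) := by
  refine ⟨K580.Cpl.henselian A, ?_⟩
  let e : ResidueField A →+* ResidueField (AdicCompletion (maximalIdeal A) A) :=
    ResidueField.map (algebraMap A (AdicCompletion (maximalIdeal A) A))
  have he : Function.Bijective e := by
    refine ⟨e.injective, fun y => ?_⟩
    obtain ⟨b, rfl⟩ := residue_surjective y
    obtain ⟨a, ha⟩ := (qiso A (maximalIdeal A) (IsNoetherian.noetherian _)).surj 1 b
    rw [pow_one, ← AdicCompletion.maximalIdeal_eq_map] at ha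
    refine ⟨residue A a, ?_⟩
    rw [ResidueField.map_residue, ← sub_eq_zero, ← map_sub, residue_eq_zero_iff]
    exact ha
  exact isSepClosed_of_ringEquiv (RingEquiv.ofBijective e he)

section Cohomology

variable {A : Type u} [CommRing A] [IsNoetherianRing A] [HenselianLocalRing A]

/-- The punctured spectra of a henselian noetherian local ring and of its completion have the same cohomology
with torsion coefficients. -/
theorem exists_Hpull {U U' : Scheme.{u}} (j : U ⟶ Spec (CommRingCat.of A)) [IsOpenImmersion j]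
    (hU : ∀ x : PrimeSpectrum A, x ∈ Set.range j.base ↔ x ≠ closedPoint A)
    (j' : U' ⟶ Spec (CommRingCat.of (AdicCompletion (maximalIdeal A) A))) [IsOpenImmersion j']
    (hU' : ∀ x : PrimeSpectrum (AdicCompletion (maximalIdeal A) A), x ∈ Set.range j'.base ↔
      x ≠ closedPoint (AdicCompletion (maximalIdeal A) A)) :
    ∃ g : U' ⟶ U, ∀ (F : EtCoh.Ab U) (_ : EtCoh.IsTorsion F) (i : ℕ),
      Function.Bijective (EtCore.Hpull g F i) := by
  let A' := AdicCompletion (maximalIdeal A) A
  let φ : A →+* A' := algebraMap A A'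
  have hN : IsNoetherianRing A' := K580.Cpl.isNoetherianRing A
  have hmax : maximalIdeal A' = (maximalIdeal A).map φ := AdicCompletion.maximalIdeal_eq_map
  have hA : HenselianRing A (maximalIdeal A) := inferInstance
  have hA' : HenselianRing A' (maximalIdeal A') := by
    have : IsAdicComplete (maximalIdeal A') A' := inferInstance
    infer_instance
  have hr : ∀ z : Spec (CommRingCat.of A'), z ∈ Set.range j' ↔
      (Spec.map (CommRingCat.ofHom φ)) z ∈ Set.range j := by
    intro z
    refine (hU' z).trans (Iff.trans ?_ (hU (PrimeSpectrum.comap φ z)).symm)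
    refine not_congr ⟨fun h => ?_, fun h => ?_⟩
    · rw [h]
      exact IsLocalRing.comap_closedPoint φ
    · apply PrimeSpectrum.ext
      have h1 : (maximalIdeal A).map φ ≤ z.asIdeal := by
        rw [Ideal.map_le_iff_le_comap]
        exact (congrArg PrimeSpectrum.asIdeal h).ge
      rw [← hmax] at h1
      exact ((maximalIdeal.isMaximal A').eq_of_le z.2.ne_top h1).symm
  obtain ⟨g, sq⟩ := K555.OpenSq.exists_isPullback_of_range j j' (Spec.map (CommRingCat.ofHom φ)) hr
  obtain ⟨s, hs⟩ : (maximalIdeal A).FG := IsNoetherian.noetherian _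
  have hl : Ideal.ofList s.toList = maximalIdeal A := by
    rw [← hs, Ideal.ofList]
    congr 1
    ext x
    simp
  have i1 : HenselianRing A (Ideal.ofList s.toList) := by rw [hl]; infer_instance
  have i2 : HenselianRing A' ((Ideal.ofList s.toList).map φ) := by rw [hl, ← hmax]; infer_instance
  have hQ : K23.HatMap.QIsoI φ (Ideal.ofList s.toList) := by
    rw [hl]
    exact qiso A _ (IsNoetherian.noetherian _)
  refine ⟨g, fun F hF i => K23.HensMain.main _ φ s.toList rfl hQ j (fun x hx => ?_) g j' sq F hF i⟩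
  rw [hl] at hx
  refine (hU x).2 fun h => hx ?_
  rw [h]
  exact le_refl (maximalIdeal A)

end Cohomology

section Low

/-- Degrees zero and one: `ℋ⁰ = ℋ¹ = 0`. -/
theorem low {A : Type u} [CommRing A] [IsRegularLocalRing A] {d : ℕ} (hd : ringKrullDim A = d) (hd1 : 1 ≤ d)
    {U : Scheme.{u}} (j : U ⟶ Spec (CommRingCat.of A)) [IsOpenImmersion j]
    (hU : Set.range j = {closedPoint A}ᶜ) (M : Type) [AddCommGroup M] :
    IsZero ((EtDual.locCoh j 0).obj (EtCoh.const (Spec (CommRingCat.of A)) M)) ∧
      IsZero ((EtDual.locCoh j 1).obj (EtCoh.const (Spec (CommRingCat.of A)) M)) := by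
  have hdom : IsDomain A := CalgA.RegBasic.isDomain A
  have hufd : UniqueFactorizationMonoid A := (S2821.result A).2
  have hcl : IsIntegrallyClosed A := inferInstance
  have hint : IsIntegral (Spec (CommRingCat.of A)) := inferInstance
  have hN : Pi1.IsNormalScheme (Spec (CommRingCat.of A)) := CurvesC.RatPow.isNormalScheme_Spec
  have hirr := PunctH.irreducibleSpace_of_regular A hd j hU hd1
  have hne : Nonempty U := inferInstance
  have hiso : IsIso (EtDual.unitApp j (EtCoh.const (Spec (CommRingCat.of A)) M)) :=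
    K349.NagataPush.isIso_unit_const hN j M
  exact ⟨(Sga4h.LocCohLES.isZero_locCoh_zero_iff j _).2 inferInstance,
    (Sga4h.LocCohLES.isZero_locCoh_one_iff j _).2 inferInstance⟩

/-- Punctual purity in dimension zero. -/
theorem pure_of_field {R : Type u} [CommRing R] [IsRegularLocalRing R] (hd : ringKrullDim R = (0 : ℕ)) (n : ℕ)
    {U : Scheme.{u}} (j : U ⟶ Spec (CommRingCat.of R)) [IsOpenImmersion j]
    (hU : ∀ x : PrimeSpectrum R, x ∈ Set.range j.base ↔ x ≠ closedPoint R) :
    (∀ q : ℕ, q ≠ 2 * 0 → IsZero ((EtDual.locCoh j q).obj (EtCoh.const (Spec (CommRingCat.of R)) (ZMod n)))) ∧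
      Nonempty ((EtDual.locCoh j (2 * 0)).obj (EtDual.tate (Spec (CommRingCat.of R)) n 0) ≅
        (EtCoh.push (Spec.map (CommRingCat.ofHom (residue R)))).obj
          (EtCoh.const (Spec (CommRingCat.of (ResidueField R))) (ZMod n))) := by
  have h0 : ringKrullDim R = 0 := by exact_mod_cast hd
  have hE : IsEmpty U := by
    refine ⟨fun x => ?_⟩
    have : Ring.KrullDimLE 0 R := by
      rw [Ring.krullDimLE_iff, h0]
      rfl
    have hp : ∀ y : PrimeSpectrum R, y = closedPoint R := fun y =>
      PrimeSpectrum.ext (eq_maximalIdeal (Ideal.isMaximal_of_isPrime y.asIdeal))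
    exact (hU (j x)).1 ⟨x, rfl⟩ (hp _)
  refine ⟨fun q hq => ?_, ?_⟩
  · obtain ⟨q, rfl⟩ := Nat.exists_eq_succ_of_ne_zero (by omega : q ≠ 0)
    exact Sga4B.LocCohTriv.isZero_locCoh_succ_of_isEmpty _ _ q
  · have hdom : IsDomain R := CalgA.RegBasic.isDomain R
    have : Ring.KrullDimLE 0 R := by
      rw [Ring.krullDimLE_iff, h0]
      rfl
    have hF : IsField R := Ring.KrullDimLE.isField_of_isDomain
    have hb : Function.Bijective (residue R) := by
      refine ⟨?_, residue_surjective⟩
      rw [injective_iff_map_eq_zero]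
      intro a ha
      have h1 : a ∈ maximalIdeal R := (residue_eq_zero_iff a).1 ha
      rwa [isField_iff_maximalIdeal_eq.1 hF] at h1
    have hi : IsIso (CommRingCat.ofHom (residue R)) :=
      (ConcreteCategory.isIso_iff_bijective _).2 hb
    obtain ⟨e⟩ := PuncPure.nonempty_push_const_iso (Spec.map (CommRingCat.ofHom (residue R))) (ZMod n)
    exact ⟨Sga4B.LocCohTriv.locCohZeroIsoOfIsEmpty _ _ ≪≫ e⟩

end Low

section Transfer

/-- The condition of punctual purity for `Z/n` at the closed point. -/
def Pure (A : Type u) [CommRing A] [IsLocalRing A] (d n : ℕ) {U : Scheme.{u}}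
    (j : U ⟶ Spec (CommRingCat.of A)) [IsOpenImmersion j] : Prop :=
  (∀ q : ℕ, q ≠ 2 * d → IsZero ((EtDual.locCoh j q).obj (EtCoh.const (Spec (CommRingCat.of A)) (ZMod n)))) ∧
    Nonempty ((EtDual.locCoh j (2 * d)).obj (EtDual.tate (Spec (CommRingCat.of A)) n d) ≅
      (EtCoh.push (Spec.map (CommRingCat.ofHom (residue A)))).obj
        (EtCoh.const (Spec (CommRingCat.of (ResidueField A))) (ZMod n)))

/-- Punctual purity is a statement on the cohomology of the punctured spectrum. -/
theorem pure_iff {A : Type u} [CommRing A] [IsRegularLocalRing A] (hA : EtCoh.IsStrictlyHenselianLocalRing A)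
    {d n : ℕ} (hd : ringKrullDim A = d) (hd1 : 1 ≤ d) (hn0 : 0 < n) (hn : IsUnit (n : A)) {U : Scheme.{u}}
    (j : U ⟶ Spec (CommRingCat.of A)) [IsOpenImmersion j] (hU : Set.range j = {closedPoint A}ᶜ) :
    Pure A d n j ↔ ((∀ q : ℕ, 1 ≤ q → q + 1 ≠ 2 * d → Subsingleton (EtCoh.H U (EtCoh.const U (ZMod n)) q)) ∧
      Nonempty (EtCoh.H U (EtCoh.const U (ZMod n)) (2 * d - 1) ≃+ ZMod n)) := by
  have hqc : QuasiCompact j := inferInstance
  constructor
  · rintro ⟨h1, h2⟩
    exact ⟨PunctH.punct_of_pure hA j hU h1, PunctH.top_of_pure hA j hU hn0 hn hd1 h2⟩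
  · rintro ⟨h1, h2⟩
    obtain ⟨l0, l1⟩ := low hd hd1 j hU (ZMod n)
    exact ⟨PunctH.pure_of_punct hA j hU l0 l1 h1, PunctH.pure_top_of_punct hA j hU hn0 hn hd1 h2⟩

/-- **Punctual purity for a strictly henselian regular local ring and for its completion.** -/
theorem main (A : Type u) [CommRing A] [IsRegularLocalRing A]
    (hsh : EtCoh.IsStrictlyHenselianLocalRing A) (d : ℕ) (hd : ringKrullDim A = d)
    (n : ℕ) (hn0 : 0 < n) (hn : IsUnit (n : A))
    {U : Scheme.{u}} (j : U ⟶ Spec (CommRingCat.of A)) [IsOpenImmersion j]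
    (hU : ∀ x : PrimeSpectrum A, x ∈ Set.range j.base ↔ x ≠ closedPoint A)
    {U' : Scheme.{u}} (j' : U' ⟶ Spec (CommRingCat.of (AdicCompletion (maximalIdeal A) A)))
    [IsOpenImmersion j']
    (hU' : ∀ x : PrimeSpectrum (AdicCompletion (maximalIdeal A) A), x ∈ Set.range j'.base ↔
      x ≠ closedPoint (AdicCompletion (maximalIdeal A) A)) :
    Pure A d n j ↔ Pure (AdicCompletion (maximalIdeal A) A) d n j' := by
  have hR : IsRegularLocalRing (AdicCompletion (maximalIdeal A) A) := (S0548.result A).1 inferInstance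
  have hd' : ringKrullDim (AdicCompletion (maximalIdeal A) A) = d := by
    rw [S0547.result A, hd]
  have hn' : IsUnit (n : AdicCompletion (maximalIdeal A) A) := by
    have := hn.map (algebraMap A (AdicCompletion (maximalIdeal A) A))
    rwa [map_natCast] at this
  rcases Nat.eq_zero_or_pos d with rfl | hd0
  · exact iff_of_true (pure_of_field hd n j hU) (pure_of_field hd' n j' hU')
  have hUr : Set.range j = {closedPoint A}ᶜ := by
    ext x; exact hU x
  have hUr' : Set.range j' = {closedPoint (AdicCompletion (maximalIdeal A) A)}ᶜ := by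
    ext x; exact hU' x
  have hsh' : EtCoh.IsStrictlyHenselianLocalRing (AdicCompletion (maximalIdeal A) A) :=
    isStrictlyHenselian_completion A hsh.2
  obtain ⟨hh, hs⟩ := hsh
  obtain ⟨g, hg⟩ := exists_Hpull j hU j' hU'
  have hne : NeZero n := ⟨hn0.ne'⟩
  have e : ∀ q : ℕ, Nonempty (EtCoh.H U (EtCoh.const U (ZMod n)) q ≃+ EtCoh.H U' (EtCoh.const U' (ZMod n)) q) := by
    intro q
    have h1 := hg (EtCoh.const U (ZMod n)) (Etrest.ConstBasic.isTorsion_of_killedBy hn0
      (Etrest.ConstBasic.killedBy_const U (ZMod n) n fun m => by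
        rw [nsmul_eq_mul, ZMod.natCast_self, zero_mul])) q
    exact ⟨(AddEquiv.ofBijective (EtCore.Hpull g (EtCoh.const U (ZMod n)) q) h1).trans
      (Etrest.IsoInv.HCongr (EtCore.pullConst g (ZMod n)) q)⟩
  rw [pure_iff ⟨hh, hs⟩ hd hd0 hn0 hn j hUr, pure_iff hsh' hd' hd0 hn0 hn' j' hUr']
  refine and_congr (forall_congr' fun q => forall_congr' fun _ => forall_congr' fun _ => ?_) ?_
  · obtain ⟨e⟩ := e q
    exact e.toEquiv.subsingleton_congr
  · obtain ⟨e⟩ := e (2 * d - 1)
    exact ⟨fun ⟨a⟩ => ⟨e.symm.trans a⟩, fun ⟨a⟩ => ⟨e.trans a⟩⟩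

end Transfer

end K174.CompPunct
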